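import Groth.Agent.ThickAffine.Affine
import Groth.Agent.QCohExt.Basic
import Groth.Agent.Devissage.General
import Groth.Prelude.Def_ClSub2
import Mathlib.RingTheory.Noetherian.Nilpotent

/-!
# Any thickening of an affine scheme is affine
-/

noncomputable section

universe u

open CategoryTheory Limits AlgebraicGeometry Opposite TopologicalSpace Groth.Agent.QCohBase

namespace Groth.Agent.ThickAffine

variable {X₀ X : Scheme.{u}}

/-- Finitely many sections of the kernel of a closed immersion lie in a finitely generated ideal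
below the kernel. -/
theorem exists_fg_le_ker [CompactSpace X] [QuasiSeparatedSpace X] (i : X₀ ⟶ X) [IsClosedImmersion i] (n : ℕ)
    (V : Fin n → X.affineOpens) (s : ∀ k, Γ(X, (V k).1)) (hs : ∀ k, i.app (V k).1 (s k) = 0) :
    ∃ J : X.IdealSheafData, J ≤ i.ker ∧ (∀ A : X.affineOpens, (J.ideal A).FG) ∧
      ∀ k, s k ∈ J.ideal (V k) := by
  let O := Coh.structureModule X
  let φ := ClSub.unitToPush i
  haveI : O.IsQuasicoherent := AssPts.isQuasicoherent_structureModule X
  haveI : (Coh.structureModule X₀).IsQuasicoherent := AssPts.isQuasicoherent_structureModule X₀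
  have hK : (kernel φ).IsQuasicoherent :=
    isQuasicoherent_kernel φ ‹_› (isQuasicoherent_pushforward _ i)
  haveI := hK
  let T : ShortComplex X.Modules := ShortComplex.mk (kernel.ι φ) φ (kernel.condition φ)
  haveI : Mono T.f := inferInstanceAs (Mono (kernel.ι φ))
  choose σ hσ using fun k => sections_exact_left (T := T)
    (ShortComplex.exact_of_f_is_kernel _ (kernelIsKernel _)) (U := (V k).1)
    (show Γ(O, (V k).1) from s k) (hs k)
  obtain ⟨J₀, k₀, hm, hq, hF, hmem⟩ :=
    QCohExt.exists_sub_through (kernel φ) n (fun k => (V k).1) (fun k => (V k).2) σ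
  haveI := hm
  haveI := hq
  let k₁ : J₀ ⟶ O := k₀ ≫ kernel.ι φ
  haveI : Mono k₁ := mono_comp _ _
  haveI : (cokernel k₁).IsQuasicoherent := isQuasicoherent_cokernel k₁ hq ‹_›
  let T₁ : ShortComplex X.Modules := ShortComplex.mk k₁ (cokernel.π k₁) (cokernel.condition k₁)
  haveI : Mono T₁.f := inferInstanceAs (Mono k₁)
  have hex : T₁.Exact := ShortComplex.exact_of_g_is_cokernel _ (cokernelIsCokernel k₁)
  have hrange : ∀ (U : X.Opens) (a : Γ(X, U)), a ∈ Devissage.kerIdeal (cokernel.π k₁) U ↔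
      a ∈ Set.range (fun z => (show Γ(X, U) from k₁.app U z)) := fun U a => by
    constructor
    · intro ha
      exact sections_exact_left hex (U := U) (show Γ(O, U) from a) ha
    · rintro ⟨z, rfl⟩
      show (cokernel.π k₁).app U (k₁.app U z) = 0
      rw [← Devissage.comp_app_apply, cokernel.condition]
      rfl
  refine ⟨Devissage.kerData (cokernel.π k₁), fun A a ha => ?_, fun A => ?_, fun k => ?_⟩
  · obtain ⟨z, rfl⟩ := (hrange A.1 a).1 ha
    rw [Scheme.Hom.ker_apply, RingHom.mem_ker]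
    show φ.app A.1 (k₁.app A.1 z) = 0
    rw [← Devissage.comp_app_apply, Category.assoc, kernel.condition, comp_zero]
    rfl
  · haveI := hF A.1 A.2 le_top
    have e : (Devissage.kerData (cokernel.π k₁)).ideal A =
        LinearMap.range (appL k₁ A.1) := by
      ext a
      exact hrange A.1 a
    rw [e, LinearMap.range_eq_map]
    exact Module.Finite.fg_top.map _
  · obtain ⟨z, hz⟩ := hmem k
    refine (hrange (V k).1 (s k)).2 ⟨z, ?_⟩
    show (k₀ ≫ kernel.ι φ).app (V k).1 z = s k
    rw [Devissage.comp_app_apply, hz]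
    exact hσ k

/-- A thickening of an affine scheme is affine. -/
theorem isAffine_of_thickening (i : X₀ ⟶ X) [IsClosedImmersion i] [Surjective i] [IsAffine X₀] :
    IsAffine X := by
  classical
  choose sf Uf hUf hpre hmem using exists_affine_basic i
  haveI : CompactSpace X := isCompact_univ_iff.1 (i.surjective.range_eq ▸ isCompact_range i.continuous)
  haveI : QuasiSeparatedSpace X := QuasiSeparatedSpace.of_isOpenEmbedding
    (i.isClosedEmbedding.isEmbedding.toHomeomorphOfSurjective i.surjective).symm.isOpenEmbedding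
  obtain ⟨t, ht⟩ := CompactSpace.isCompact_univ.elim_finite_subcover (fun x₀ : X₀ => (Uf x₀ : Set X))
    (fun x₀ => (Uf x₀).2) fun x _ => by
      obtain ⟨x₀, rfl⟩ := i.surjective x
      refine Set.mem_iUnion.2 ⟨x₀, ?_⟩
      have : x₀ ∈ i ⁻¹ᵁ Uf x₀ := (hpre x₀).symm ▸ hmem x₀
      exact this
  let U : t → X.Opens := fun l => Uf l
  let s : t → Γ(X₀, ⊤) := fun l => sf l
  have hU : ∀ l, IsAffineOpen (U l) := fun l => hUf l
  have hcov : iSup U = ⊤ := top_le_iff.1 fun x _ => by
    obtain ⟨x₀, hx, hxU⟩ := Set.mem_iUnion₂.1 (ht (Set.mem_univ x))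
    exact Opens.mem_iSup.2 ⟨⟨x₀, hx⟩, hxU⟩
  have haff2 : ∀ l m, IsAffineOpen (U l ⊓ U m) := by
    intro l m
    obtain ⟨S, hS⟩ := i.app_surjective (U l) (hU l) (rs le_top (s m))
    have : U l ⊓ U m = X.basicOpen S := opens_ext i <| by
      rw [Scheme.preimage_basicOpen, hS]
      exact ((congrArg (i ⁻¹ᵁ U l ⊓ ·) (hpre m)).trans
        (X₀.basicOpen_res (s m) (homOfLE le_top).op).symm)
    exact this ▸ (hU l).basicOpen S
  -- a relation between the functions
  have hs1 : Ideal.span (Set.range s) = ⊤ := by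
    rw [← (isAffineOpen_top X₀).iSup_basicOpen_eq_self_iff, iSup_range' (fun g : Γ(X₀, ⊤) => X₀.basicOpen g) s]
    refine top_le_iff.1 fun x₀ _ => ?_
    obtain ⟨l, hl⟩ := Opens.mem_iSup.1 (hcov.ge (Opens.mem_top (i x₀)))
    exact Opens.mem_iSup.2 ⟨l, (hpre l.1).le hl⟩
  obtain ⟨c, hc⟩ := (Submodule.mem_span_range_iff_exists_fun Γ(X₀, ⊤)).1 (hs1.ge (Submodule.mem_top (x := 1)))
  -- local lifts and their differences
  let b : t ⊕ t → Γ(X₀, ⊤) := Sum.elim s c
  choose γ hγ using fun p : (t ⊕ t) × t => i.app_surjective (U p.2) (hU p.2) (rs le_top (b p.1))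
  let e := Fintype.equivFin ((t ⊕ t) × t × t)
  let W : (t ⊕ t) × t × t → X.affineOpens := fun p => ⟨U p.2.1 ⊓ U p.2.2, haff2 _ _⟩
  let d : ∀ p, Γ(X, (W p).1) := fun p =>
    rs inf_le_left (γ (p.1, p.2.1)) - rs inf_le_right (γ (p.1, p.2.2))
  have hd : ∀ p, i.app (W p).1 (d p) = 0 := fun p => by
    show i.app (U p.2.1 ⊓ U p.2.2) _ = 0
    rw [map_sub, app_rs, app_rs, hγ, hγ, rs_rs, rs_rs, sub_self]
  obtain ⟨J, hJle, hJfg, hJd⟩ := exists_fg_le_ker i _ (fun k => W (e.symm k)) (fun k => d (e.symm k))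
    (fun k => hd _)
  have hd' : ∀ p, d p ∈ J.ideal (W p) := fun p => by
    have h0 := hJd (e p)
    rwa [Equiv.symm_apply_apply] at h0
  let cι := J.subschemeι
  haveI : Surjective cι := ⟨fun x => by
    have hx : x ∈ J.support := Scheme.IdealSheafData.support_antitone hJle
      (i.range_subset_ker_support (i.surjective x))
    rw [← SetLike.mem_coe, ← Scheme.IdealSheafData.range_subschemeι] at hx
    exact hx⟩
  let j := IsClosedImmersion.lift cι i (by rw [Scheme.IdealSheafData.ker_subschemeι]; exact hJle)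
  have hj : j ≫ cι = i := IsClosedImmersion.lift_fac _ _ _
  haveI : IsClosedImmersion (j ≫ cι) := hj ▸ inferInstance
  haveI : IsClosedImmersion j := IsClosedImmersion.of_comp_isClosedImmersion j cι
  haveI : Surjective j := ⟨fun y => by
    obtain ⟨x, hx⟩ := i.surjective (cι y)
    refine ⟨x, cι.isClosedEmbedding.injective ?_⟩
    rw [← hx, ← hj]
    rfl⟩
  -- global lifts
  let U' : t → J.subscheme.Opens := fun l => cι ⁻¹ᵁ U l
  have hcov' : iSup U' = ⊤ := by
    rw [← Scheme.Hom.preimage_iSup, hcov]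
    rfl
  have hglue : ∀ q, ∃ g : Γ(J.subscheme, ⊤), j.appTop g = b q := fun q => by
    have hcompat : TopCat.Presheaf.IsCompatible J.subscheme.sheaf.1 U' (fun l => cι.app (U l) (γ (q, l))) := by
      intro l m
      show rs inf_le_left (cι.app (U l) (γ (q, l))) = rs inf_le_right (cι.app (U m) (γ (q, m)))
      have h0 : cι.app (U l ⊓ U m) (d (q, l, m)) = 0 := by
        rw [← RingHom.mem_ker, ← Scheme.Hom.ker_apply cι (W (q, l, m)), Scheme.IdealSheafData.ker_subschemeι]
        exact hd' (q, l, m)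
      rw [map_sub, app_rs, app_rs, sub_eq_zero] at h0
      exact h0
    obtain ⟨g, hg, -⟩ := J.subscheme.sheaf.existsUnique_gluing' U' ⊤ (fun l => homOfLE le_top)
      hcov'.ge _ hcompat
    refine ⟨g, TopCat.Sheaf.eq_of_locally_eq' X₀.sheaf (fun l => j ⁻¹ᵁ U' l) ⊤ (fun l => homOfLE le_top)
      (fun x _ => ?_) _ _ fun l => ?_⟩
    · obtain ⟨l, hl⟩ := Opens.mem_iSup.1 (hcov'.ge (Opens.mem_top (j x)))
      exact Opens.mem_iSup.2 ⟨l, hl⟩
    · show rs le_top (j.app ⊤ g) = rs le_top (b q)
      have h1 := app_rs j (le_top : U' l ≤ ⊤) g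
      rw [show rs (le_top : U' l ≤ ⊤) g = cι.app (U l) (γ (q, l)) from hg l] at h1
      refine h1.symm.trans ?_
      have h2 := hγ (q, l)
      have gen : ∀ (i' : X₀ ⟶ X) (hi : i' = i), i'.app (U l) (γ (q, l)) = rs le_top (b q) := by
        rintro _ rfl
        exact h2
      exact gen _ hj
  choose g hg using hglue
  haveI : IsAffine J.subscheme := by
    refine isAffine_of_isAffineOpen_basicOpen (Set.range fun l => g (Sum.inl l)) ?_ ?_
    · let u := ∑ l, g (Sum.inr l) * g (Sum.inl l)
      have hu1 : j.appTop u = 1 := by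
        simp only [u, map_sum, map_mul, hg, b, Sum.elim_inr, Sum.elim_inl]
        exact hc
      have hb : J.subscheme.basicOpen u = ⊤ := opens_ext j <| by
        rw [Scheme.preimage_basicOpen_top, hu1, X₀.basicOpen_of_isUnit isUnit_one]
        rfl
      have hunit : IsUnit u := J.subscheme.toRingedSpace.isUnit_of_isUnit_germ ⊤ u fun x hx =>
        (J.subscheme.mem_basicOpen u x hx).1 (hb.ge (Opens.mem_top x))
      refine Ideal.eq_top_of_isUnit_mem _ ?_ hunit
      exact Ideal.sum_mem _ fun l _ => Ideal.mul_mem_left _ _ (Ideal.subset_span ⟨l, rfl⟩)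
    · rintro _ ⟨l, rfl⟩
      have : J.subscheme.basicOpen (g (Sum.inl l)) = U' l := opens_ext j <| by
        rw [Scheme.preimage_basicOpen_top, hg]
        have gen : ∀ (i' : X₀ ⟶ X), i' = i → X₀.basicOpen (b (Sum.inl l)) = i' ⁻¹ᵁ U l := by
          rintro _ rfl
          exact (hpre l.1).symm
        exact gen _ hj
      rw [this]
      exact (hU l).preimage cι
  -- nilpotence
  have hnil : ∀ l, IsNilpotent (J.ideal ⟨U l, hU l⟩) := fun l => by
    refine (hJfg _).isNilpotent_iff_le_nilradical.2 fun a ha => ?_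
    rw [mem_nilradical]
    have h0 : i.app (U l) a = 0 := by
      have h0 := hJle ⟨U l, hU l⟩ ha
      rwa [Scheme.Hom.ker_apply, RingHom.mem_ker] at h0
    refine (Scheme.isNilpotent_iff_basicOpen_eq_bot_of_isCompact (hU l).isCompact a).2 (opens_ext i ?_)
    rw [Scheme.preimage_basicOpen, h0, Scheme.basicOpen_zero]
    rfl
  choose n hn using hnil
  let N := Finset.univ.sup n
  refine isAffine_of_ker_pow_eq_bot cι N ?_
  rw [Scheme.IdealSheafData.ker_subschemeι]
  refine Scheme.IdealSheafData.ext_of_iSup_eq_top (fun l => ⟨U l, hU l⟩) hcov fun l => ?_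
  rw [Scheme.IdealSheafData.ideal_pow, Pi.pow_apply, Scheme.IdealSheafData.ideal_bot, Pi.bot_apply]
  refine eq_bot_iff.2 ((Ideal.pow_le_pow_right ?_).trans (hn l).le)
  exact (Finset.le_sup (f := n) (Finset.mem_univ l)).trans (Nat.le_succ _)

end Groth.Agent.ThickAffine
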