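import Groth.Agent.ThickAffine.SquareZero
import Mathlib.AlgebraicGeometry.IdealSheaf.Functorial

/-!
# A nilpotent thickening of an affine scheme is affine
-/

universe u

open CategoryTheory Limits AlgebraicGeometry TopologicalSpace Opposite

namespace Groth.Agent.ThickAffine

variable {X₀ X : Scheme.{u}}

/-- A square-zero thickening of an affine scheme is affine. -/
theorem isAffine_of_sqZero (i : X₀ ⟶ X) [IsClosedImmersion i] [Surjective i] [IsAffine X₀]
    (h : SqZero i) : IsAffine X := by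
  let s : Set Γ(X, ⊤) := {g | IsAffineOpen (X.basicOpen g)}
  refine isAffine_of_isAffineOpen_basicOpen s ?_ fun g hg => hg
  rw [Ideal.eq_top_iff_one]
  have htop : (Ideal.span s).map i.appTop.hom = ⊤ := by
    refine top_le_iff.1 ((((isAffineOpen_top X₀).iSup_basicOpen_eq_self_iff
      (s := i.appTop.hom '' s)).1 ?_).ge.trans ?_)
    · refine top_le_iff.1 fun x₀ _ => ?_
      obtain ⟨a, U, hU, hpre, hx⟩ := exists_affine_basic i x₀
      obtain ⟨g, rfl⟩ := appTop_surjective i h a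
      have hUg : U = X.basicOpen g := opens_ext i (hpre.trans (Scheme.preimage_basicOpen_top i g).symm)
      refine Opens.mem_iSup.2 ⟨⟨_, g, (hUg ▸ hU : IsAffineOpen (X.basicOpen g)), rfl⟩, ?_⟩
      exact hx
    · rw [Ideal.span_le]
      rintro _ ⟨g, hg, rfl⟩
      exact Ideal.mem_map_of_mem _ (Ideal.subset_span hg)
  obtain ⟨u, hu, hu1⟩ := (Ideal.mem_map_iff_of_surjective _ (appTop_surjective i h)).1
    (htop.ge (Submodule.mem_top (x := 1)))
  have hb : X.basicOpen u = ⊤ := opens_ext i <| by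
    rw [Scheme.preimage_basicOpen_top]
    change X₀.basicOpen (i.appTop.hom u) = _
    rw [hu1, X₀.basicOpen_of_isUnit isUnit_one]
    rfl
  have hunit : IsUnit u := X.toRingedSpace.isUnit_of_isUnit_germ ⊤ u fun x hx => by
    have : x ∈ X.basicOpen u := hb.ge (Opens.mem_top x)
    exact (X.mem_basicOpen u x hx).1 this
  rw [Ideal.eq_top_of_isUnit_mem _ hu hunit]
  exact Submodule.mem_top

/-- The closed immersion `j` is square-zero if the square of the kernel of `j ≫ c` lies in the kernel of `c`. -/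
theorem sqZero_of_ker {A Y : Scheme.{u}} (j : A ⟶ Y) (c : Y ⟶ X) [IsClosedImmersion j] [IsClosedImmersion c]
    [Surjective c] (h : (j ≫ c).ker * (j ≫ c).ker ≤ c.ker) : SqZero j := by
  intro V _ a b ha hb
  have hW : ∀ y ∈ V, ∃ U : X.affineOpens, y ∈ c ⁻¹ᵁ (U : X.Opens) ∧ c ⁻¹ᵁ (U : X.Opens) ≤ V := by
    intro y hy
    obtain ⟨W, hWo, hW⟩ := c.isClosedEmbedding.isInducing.isOpen_iff.1 V.2
    obtain ⟨U, hU, hyU, hUW⟩ := Opens.isBasis_iff_nbhd.1 X.isBasis_affineOpens (U := ⟨W, hWo⟩)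
      (show c y ∈ W from (Set.ext_iff.1 hW y).2 hy)
    exact ⟨⟨U, hU⟩, hyU, fun z hz => (Set.ext_iff.1 hW z).1 (hUW hz)⟩
  choose U hyU hUV using hW
  refine TopCat.Sheaf.eq_of_locally_eq' Y.sheaf (fun y : V => c ⁻¹ᵁ (U y.1 y.2 : X.Opens)) V
    (fun y => homOfLE (hUV y.1 y.2)) (fun y hy => Opens.mem_iSup.2 ⟨⟨y, hy⟩, hyU y hy⟩) _ _ fun y => ?_
  change rs (hUV y.1 y.2) (a * b) = rs (hUV y.1 y.2) 0
  obtain ⟨a', ha'⟩ := c.app_surjective _ (U y.1 y.2).2 (rs (hUV y.1 y.2) a)
  obtain ⟨b', hb'⟩ := c.app_surjective _ (U y.1 y.2).2 (rs (hUV y.1 y.2) b)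
  have hmem : ∀ (x : Γ(Y, V)) (x' : Γ(X, (U y.1 y.2 : X.Opens))), c.app _ x' = rs (hUV y.1 y.2) x →
      j.app V x = 0 → x' ∈ (j ≫ c).ker.ideal (U y.1 y.2) := fun x x' hx' hx => by
    rw [Scheme.Hom.ker_apply, RingHom.mem_ker]
    change j.app _ (c.app _ x') = 0
    rw [hx', app_rs, hx, map_zero]
  have hab : a' * b' ∈ c.ker.ideal (U y.1 y.2) :=
    h (U y.1 y.2) (Ideal.mul_mem_mul (hmem a a' ha' ha) (hmem b b' hb' hb))
  rw [Scheme.Hom.ker_apply, RingHom.mem_ker, map_mul, ha', hb'] at hab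
  rw [map_mul, map_zero, hab]

/-- A nilpotent thickening of an affine scheme is affine. -/
theorem isAffine_of_ker_pow_eq_bot (i : X₀ ⟶ X) [IsClosedImmersion i] [Surjective i] [IsAffine X₀]
    (n : ℕ) (hn : i.ker ^ (n + 1) = ⊥) : IsAffine X := by
  set K := i.ker with hK
  have hsup : ∀ a : ℕ, Surjective (K ^ (a + 1)).subschemeι := fun a => ⟨fun x => by
    have hx : x ∈ (K ^ (a + 1)).support := by
      rw [Scheme.IdealSheafData.support_pow_succ]
      exact i.range_subset_ker_support (i.surjective x)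
    rw [← SetLike.mem_coe, ← Scheme.IdealSheafData.range_subschemeι] at hx
    exact hx⟩
  have hpow : ∀ a b : ℕ, a ≤ b → K ^ b ≤ K ^ a := fun a b hab U => by
    rw [Scheme.IdealSheafData.ideal_pow, Scheme.IdealSheafData.ideal_pow, Pi.pow_apply, Pi.pow_apply]
    exact Ideal.pow_le_pow_right hab
  -- one step
  have step : ∀ {A Y : Scheme.{u}} (f : A ⟶ X) (c : Y ⟶ X) [IsClosedImmersion f] [IsClosedImmersion c]
      [Surjective f] [Surjective c] (_ : IsAffine A) (a b : ℕ), f.ker = K ^ a → c.ker = K ^ b →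
      a ≤ b → b ≤ a + a → IsAffine Y := by
    intro A Y f c _ _ _ _ hA a b hf hc hab hba
    have hle : c.ker ≤ f.ker := by rw [hf, hc]; exact hpow a b hab
    let j := IsClosedImmersion.lift c f hle
    have hj : j ≫ c = f := IsClosedImmersion.lift_fac c f hle
    haveI : IsClosedImmersion (j ≫ c) := hj ▸ inferInstance
    haveI : IsClosedImmersion j := IsClosedImmersion.of_comp_isClosedImmersion j c
    haveI : Surjective j := ⟨fun y => by
      obtain ⟨x, hx⟩ := f.surjective (c y)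
      refine ⟨x, c.isClosedEmbedding.injective ?_⟩
      rw [← hx, ← hj]
      rfl⟩
    refine isAffine_of_sqZero j (sqZero_of_ker j c ?_)
    rw [hj, hf, hc, ← pow_add]
    exact hpow b (a + a) hba
  have hind : ∀ m, IsAffine (K ^ (m + 1)).subscheme := by
    intro m
    induction m with
    | zero =>
      haveI := hsup 0
      exact step i (K ^ 1).subschemeι ‹_› 1 1 (pow_one K).symm (Scheme.IdealSheafData.ker_subschemeι _)
        le_rfl (by omega)
    | succ m ih =>
      haveI := hsup m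
      haveI := hsup (m + 1)
      exact step (K ^ (m + 1)).subschemeι (K ^ (m + 2)).subschemeι ih (m + 1) (m + 2)
        (Scheme.IdealSheafData.ker_subschemeι _) (Scheme.IdealSheafData.ker_subschemeι _) (by omega) (by omega)
  haveI := hsup n
  exact step (K ^ (n + 1)).subschemeι (𝟙 X) (hind n) (n + 1) (n + 1) (Scheme.IdealSheafData.ker_subschemeι _)
    ((Scheme.Hom.ker_eq_bot_of_isIso (𝟙 X)).trans hn.symm) le_rfl (by omega)

end Groth.Agent.ThickAffine
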