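import Mathlib.AlgebraicGeometry.Morphisms.ClosedImmersion
import Mathlib.AlgebraicGeometry.Morphisms.Affine

/-!
# A square-zero thickening of an affine scheme is affine

Global functions lift: the obstruction of a function `b` to lift is killed by an ideal which contains a
power of every function of a covering family, so it vanishes.
-/

universe u

open CategoryTheory Limits AlgebraicGeometry TopologicalSpace Opposite

namespace Groth.Agent.ThickAffine

variable {X₀ X : Scheme.{u}} (i : X₀ ⟶ X)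

/-- Restriction of sections, as a ring map. -/
abbrev rs {Y : Scheme.{u}} {U V : Y.Opens} (h : U ≤ V) : Γ(Y, V) →+* Γ(Y, U) :=
  (Y.presheaf.map (homOfLE h).op).hom

lemma rs_rs {Y : Scheme.{u}} {U V W : Y.Opens} (h : U ≤ V) (h' : V ≤ W) (x : Γ(Y, W)) :
    rs h (rs h' x) = rs (h.trans h') x := by
  change (Y.presheaf.map _ ≫ Y.presheaf.map _) x = _
  rw [← Functor.map_comp]
  rfl

lemma app_rs {U V : X.Opens} (h : U ≤ V) (x : Γ(X, V)) :
    i.app U (rs h x) = rs (i.preimage_mono h) (i.app V x) := by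
  change (X.presheaf.map _ ≫ i.app U) x = _
  rw [i.naturality]
  rfl

/-- The kernel of `i` is square-zero on affine opens. -/
def SqZero : Prop :=
  ∀ U : X.Opens, IsAffineOpen U → ∀ a b : Γ(X, U), i.app U a = 0 → i.app U b = 0 → a * b = 0

variable [Surjective i]

lemma opens_ext {U V : X.Opens} (h : i ⁻¹ᵁ U = i ⁻¹ᵁ V) : U = V :=
  Opens.ext (i.surjective.preimage_injective (congrArg (fun W : X₀.Opens => (W : Set X₀)) h))

variable [IsClosedImmersion i] [IsAffine X₀]

omit [Surjective i] in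
/-- The covering by affine opens cut out by global functions on `X₀`. -/
lemma exists_affine_basic (x₀ : X₀) :
    ∃ (s : Γ(X₀, ⊤)) (U : X.Opens), IsAffineOpen U ∧ i ⁻¹ᵁ U = X₀.basicOpen s ∧ x₀ ∈ X₀.basicOpen s := by
  obtain ⟨U, hU, hxU, -⟩ :=
    Opens.isBasis_iff_nbhd.1 X.isBasis_affineOpens (U := ⊤) (Opens.mem_top (i x₀))
  obtain ⟨s, hs, hxs⟩ := (isAffineOpen_top X₀).exists_basicOpen_le (V := i ⁻¹ᵁ U) ⟨x₀, hxU⟩ trivial
  obtain ⟨S, hS⟩ := i.app_surjective U hU (rs le_top s)
  refine ⟨s, X.basicOpen S, hU.basicOpen S, ?_, hxs⟩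
  rw [Scheme.preimage_basicOpen, hS]
  exact (X₀.basicOpen_res s (homOfLE le_top).op).trans (inf_eq_right.2 hs)

/-- Global functions lift along a square-zero thickening of an affine scheme. -/
theorem appTop_surjective (h : SqZero i) : Function.Surjective i.appTop := by
  classical
  intro b
  choose sf Uf hUf hpre hmem using exists_affine_basic i
  haveI : CompactSpace X := isCompact_univ_iff.1 (i.surjective.range_eq ▸ isCompact_range i.continuous)
  obtain ⟨t, ht⟩ := CompactSpace.isCompact_univ.elim_finite_subcover (fun x₀ : X₀ => (Uf x₀ : Set X))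
    (fun x₀ => (Uf x₀).2) fun x _ => by
      obtain ⟨x₀, rfl⟩ := i.surjective x
      refine Set.mem_iUnion.2 ⟨x₀, ?_⟩
      have : x₀ ∈ i ⁻¹ᵁ Uf x₀ := (hpre x₀).symm ▸ hmem x₀
      exact this
  let U : t → X.Opens := fun l => Uf l
  let s : t → Γ(X₀, ⊤) := fun l => sf l
  have hU : ∀ l, IsAffineOpen (U l) := fun l => hUf l
  have hcov : (⊤ : X.Opens) ≤ iSup U := fun x _ => by
    obtain ⟨x₀, hx, hxU⟩ := Set.mem_iUnion₂.1 (ht (Set.mem_univ x))
    exact Opens.mem_iSup.2 ⟨⟨x₀, hx⟩, hxU⟩
  have haff2 : ∀ l m, IsAffineOpen (U l ⊓ U m) := by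
    intro l m
    obtain ⟨S, hS⟩ := i.app_surjective (U l) (hU l) (rs le_top (s m))
    have : U l ⊓ U m = X.basicOpen S := opens_ext i <| by
      rw [Scheme.preimage_basicOpen, hS]
      exact ((congrArg (i ⁻¹ᵁ U l ⊓ ·) (hpre m)).trans
        (X₀.basicOpen_res (s m) (homOfLE le_top).op).symm)
    exact this ▸ (hU l).basicOpen S
  have hker2 : ∀ l m, ∀ a b : Γ(X, U l ⊓ U m), i.app _ a = 0 → i.app _ b = 0 → a * b = 0 :=
    fun l m => h _ (haff2 l m)
  choose γ hγ using fun l => i.app_surjective (U l) (hU l) (rs le_top b)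
  -- `a` kills the obstruction of `b`
  let Kills : Γ(X₀, ⊤) → Prop := fun a =>
    ∃ A ε : ∀ l, Γ(X, U l), (∀ l, i.app (U l) (A l) = rs le_top a) ∧ (∀ l, i.app (U l) (ε l) = 0) ∧
      ∀ l m, rs (inf_le_left : U l ⊓ U m ≤ U l) (A l) *
          (rs inf_le_left (γ l) - rs inf_le_right (γ m)) = rs inf_le_left (ε l) - rs inf_le_right (ε m)
  have hd : ∀ l m, i.app (U l ⊓ U m) (rs inf_le_left (γ l) - rs inf_le_right (γ m)) = 0 := fun l m => by
    rw [map_sub, app_rs, app_rs, hγ, hγ, rs_rs, rs_rs, sub_self]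
  have hlift : ∀ (a : Γ(X₀, ⊤)), ∃ A : ∀ l, Γ(X, U l), ∀ l, i.app (U l) (A l) = rs le_top a := fun a => by
    choose A hA using fun l => i.app_surjective (U l) (hU l) (rs le_top a)
    exact ⟨A, hA⟩
  have hadd : ∀ a a', Kills a → Kills a' → Kills (a + a') := by
    rintro a a' ⟨A, ε, hA, hε, he⟩ ⟨A', ε', hA', hε', he'⟩
    refine ⟨fun l => A l + A' l, fun l => ε l + ε' l, fun l => by rw [map_add, hA, hA', map_add],
      fun l => by rw [map_add, hε, hε', add_zero], fun l m => ?_⟩
    rw [map_add, map_add, map_add, add_mul, he, he']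
    abel
  have hmul : ∀ c a, Kills a → Kills (c * a) := by
    rintro c a ⟨A, ε, hA, hε, he⟩
    obtain ⟨C, hC⟩ := hlift c
    refine ⟨fun l => C l * A l, fun l => C l * ε l, fun l => by rw [map_mul, hA, hC, map_mul],
      fun l => by rw [map_mul, hε, mul_zero], fun l m => ?_⟩
    have h0 : (rs (inf_le_left : U l ⊓ U m ≤ U l) (C l) - rs inf_le_right (C m)) *
        rs inf_le_right (ε m) = 0 := hker2 l m _ _
      (by rw [map_sub, app_rs, app_rs, hC, hC, rs_rs, rs_rs, sub_self]) (by rw [app_rs, hε, map_zero])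
    rw [map_mul, map_mul, map_mul, mul_assoc, he]
    rw [sub_mul, sub_eq_zero] at h0
    rw [← h0, mul_sub]
  let 𝔞 : Ideal Γ(X₀, ⊤) :=
    { carrier := {a | Kills a}
      zero_mem' := ⟨fun _ => 0, fun _ => 0, fun l => by rw [map_zero, map_zero], fun l => map_zero _,
        fun l m => by rw [map_zero, map_zero, zero_mul, sub_zero]⟩
      add_mem' := fun {a a'} => hadd a a'
      smul_mem' := hmul }
  have hpow : ∀ k, s k ∈ 𝔞.radical := by
    intro k
    obtain ⟨S, hS⟩ := hlift (s k)
    have hW : ∀ l, X.basicOpen (S l) = U l ⊓ U k := fun l => opens_ext i <| by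
      rw [Scheme.preimage_basicOpen, hS]
      exact (X₀.basicOpen_res (s k) (homOfLE le_top).op).trans (congrArg (i ⁻¹ᵁ U l ⊓ ·) (hpre k)).symm
    have hWk : ∀ l, X.basicOpen (S l) ≤ U k := fun l => (hW l).trans_le inf_le_right
    -- extend `γ l - γ k` times a power of `S l`
    have hext : ∀ l, ∃ n, ∀ N, n ≤ N → ∃ e : Γ(X, U l), i.app (U l) e = 0 ∧
        rs (X.basicOpen_le (S l)) e = rs (X.basicOpen_le (S l)) (S l) ^ N *
          (rs (X.basicOpen_le (S l)) (γ l) - rs (hWk l) (γ k)) := by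
      intro l
      haveI := (hU l).isLocalization_basicOpen (S l)
      obtain ⟨⟨e, _, n, rfl⟩, he⟩ := IsLocalization.surj (Submonoid.powers (S l))
        (rs (X.basicOpen_le (S l)) (γ l) - rs (hWk l) (γ k))
      have he' : rs (X.basicOpen_le (S l)) e = rs (X.basicOpen_le (S l)) (S l) ^ n *
          (rs (X.basicOpen_le (S l)) (γ l) - rs (hWk l) (γ k)) := by
        rw [← map_pow, mul_comm]; exact he.symm
      have h0 : rs (X₀.basicOpen_le (i.app (U l) (S l))) (i.app (U l) e) = 0 := by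
        have heq : X₀.basicOpen (i.app (U l) (S l)) ≤ i ⁻¹ᵁ X.basicOpen (S l) :=
          (Scheme.preimage_basicOpen i (S l)).ge
        rw [← rs_rs heq (i.preimage_mono (X.basicOpen_le (S l))), ← app_rs i (X.basicOpen_le (S l)), he', map_mul, map_sub,
          app_rs, app_rs, hγ, hγ, rs_rs, rs_rs, sub_self, mul_zero, map_zero]
      obtain ⟨m, hm⟩ := exists_pow_mul_eq_zero_of_res_basicOpen_eq_zero_of_isCompact X₀
        ((hU l).preimage i).isCompact _ _ h0
      refine ⟨n + m, fun N hN => ⟨S l ^ (N - n) * e, ?_, ?_⟩⟩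
      · obtain ⟨r, rfl⟩ := Nat.exists_eq_add_of_le hN
        rw [show n + m + r - n = r + m by omega, pow_add, mul_assoc, map_mul, map_mul, map_pow,
          map_pow, hm, mul_zero]
      · rw [map_mul, map_pow, he', ← mul_assoc, ← pow_add, Nat.sub_add_cancel (by omega : n ≤ N)]
    choose n hn using hext
    choose ε hε0 hε using fun l => hn l (Finset.univ.sup n) (Finset.le_sup (Finset.mem_univ l))
    -- the two sides agree after restricting to `U k`
    have hf : ∀ l m, ∃ M : ℕ, ∀ M', M ≤ M' → rs (inf_le_left : U l ⊓ U m ≤ U l) (S l) ^ M' *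
        (rs inf_le_left (S l) ^ Finset.univ.sup n * (rs inf_le_left (γ l) - rs inf_le_right (γ m)) -
          (rs inf_le_left (ε l) - rs inf_le_right (ε m))) = 0 := by
      intro l m
      set N := Finset.univ.sup n
      set W := X.basicOpen (rs (inf_le_left : U l ⊓ U m ≤ U l) (S l)) with hWdef
      have hW1 : W ≤ X.basicOpen (S l) := (X.basicOpen_res (S l) (homOfLE inf_le_left).op).trans_le inf_le_right
      have hW2 : W ≤ U l ⊓ U m := X.basicOpen_le _
      have hW3 : W ≤ X.basicOpen (S m) := by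
        rw [hW m]
        exact le_inf (hW2.trans inf_le_right) (hW1.trans (hWk l))
      have el := congrArg (rs hW1) (hε l)
      have em := congrArg (rs hW3) (hε m)
      simp only [map_mul, map_pow, map_sub, rs_rs] at el em
      have hz : (rs (hW2.trans inf_le_left) (S l) ^ N - rs (hW2.trans inf_le_right) (S m) ^ N) *
          (rs (hW2.trans inf_le_right) (γ m) - rs (hW1.trans (hWk l)) (γ k)) = 0 := by
        refine h W ((haff2 l m).basicOpen _) _ _ ?_ ?_
        · rw [map_sub, map_pow, map_pow, app_rs, app_rs, hS, hS, rs_rs, rs_rs, sub_self]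
        · rw [map_sub, app_rs, app_rs, hγ, hγ, rs_rs, rs_rs, sub_self]
      obtain ⟨M, hM⟩ := exists_pow_mul_eq_zero_of_res_basicOpen_eq_zero_of_isCompact X (haff2 l m).isCompact
        (rs inf_le_left (S l) ^ N * (rs inf_le_left (γ l) - rs inf_le_right (γ m)) -
          (rs inf_le_left (ε l) - rs inf_le_right (ε m))) (rs inf_le_left (S l))
        (by
          change rs hW2 _ = 0
          simp only [map_mul, map_pow, map_sub, rs_rs]
          rw [el, em]
          linear_combination -hz)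
      exact ⟨M, fun M' hM' => by rw [← Nat.sub_add_cancel hM', pow_add, mul_assoc, hM, mul_zero]⟩
    choose M hM using fun p : t × t => hf p.1 p.2
    refine ⟨Finset.univ.sup M + Finset.univ.sup n, fun l => S l ^ (Finset.univ.sup M + Finset.univ.sup n),
      fun l => S l ^ Finset.univ.sup M * ε l, fun l => by rw [map_pow, hS, map_pow],
      fun l => by rw [map_mul, hε0, mul_zero], fun l m => ?_⟩
    have h1 := hM (l, m) _ (Finset.le_sup (Finset.mem_univ (l, m)))
    have h2 : (rs (inf_le_left : U l ⊓ U m ≤ U l) (S l) ^ Finset.univ.sup M -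
        rs inf_le_right (S m) ^ Finset.univ.sup M) * rs inf_le_right (ε m) = 0 := hker2 l m _ _
      (by rw [map_sub, map_pow, map_pow, app_rs, app_rs, hS, hS, rs_rs, rs_rs, sub_self])
      (by rw [app_rs, hε0, map_zero])
    rw [map_pow, map_mul, map_pow, map_mul, map_pow, pow_add]
    linear_combination h1 - h2
  have htop : 𝔞.radical = ⊤ := by
    refine top_le_iff.1 (((IsAffineOpen.iSup_basicOpen_eq_self_iff (isAffineOpen_top X₀)
      (s := Set.range s)).1 ?_).ge.trans (Ideal.span_le.2 (Set.range_subset_iff.2 hpow)))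
    refine top_le_iff.1 fun x₀ _ => ?_
    obtain ⟨l, hl⟩ := Opens.mem_iSup.1 (hcov (Opens.mem_top (i x₀)))
    refine Opens.mem_iSup.2 ⟨⟨s l, l, rfl⟩, ?_⟩
    rw [← hpre l]
    exact hl
  obtain ⟨A, ε, hA, hε, he⟩ : (1 : Γ(X₀, ⊤)) ∈ 𝔞 := by
    rw [← Ideal.eq_top_iff_one]; exact Ideal.radical_eq_top.1 htop
  obtain ⟨g, hg, -⟩ := X.sheaf.existsUnique_gluing' U ⊤ (fun l => homOfLE le_top) hcov
    (fun l => γ l - ε l) fun l m => by
      change rs inf_le_left (γ l - ε l) = rs inf_le_right (γ m - ε m)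
      have h2 : (rs (inf_le_left : U l ⊓ U m ≤ U l) (A l) - 1) *
          (rs inf_le_left (γ l) - rs inf_le_right (γ m)) = 0 := hker2 l m _ _
        (by rw [map_sub, app_rs, hA, rs_rs, map_one, map_one, sub_self]) (hd l m)
      rw [map_sub, map_sub]
      linear_combination (he l m) - h2
  refine ⟨g, ?_⟩
  refine TopCat.Sheaf.eq_of_locally_eq' X₀.sheaf (fun l => i ⁻¹ᵁ U l) ⊤ (fun l => homOfLE le_top)
    (fun x₀ _ => ?_) _ _ fun l => ?_
  · obtain ⟨l, hl⟩ := Opens.mem_iSup.1 (hcov (Opens.mem_top (i x₀)))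
    exact Opens.mem_iSup.2 ⟨l, hl⟩
  · change rs le_top (i.app ⊤ g) = rs le_top b
    have := congrArg (i.app (U l)) (hg l)
    rw [map_sub, hε, sub_zero, hγ] at this
    exact ((app_rs i le_top g).symm.trans this)

end Groth.Agent.ThickAffine
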